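import Groth.Agent.EtpbcB.GammaRpush
import Groth.Agent.Sga4h.Edge
import Groth.Agent.S0101

/-!
# The edge isomorphism `H^0(S, R^n f_* F) ≃ H^n(X, F)` in the first non-vanishing degree
-/

set_option autoImplicit false
universe u

open CategoryTheory CategoryTheory.Limits AlgebraicGeometry Opposite

namespace Groth.Agent.Sga4h.H479.EdgeH

open Groth.Agent.EtpbcB.SepClosedPoint Groth.Agent.EtpbcB.GammaRpush Groth.Agent.EtpbcB.ExtRightDerived

variable {X S : Scheme.{u}}

theorem injective_push (f : X ⟶ S) (I : EtCoh.Ab X)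
    (hI : Injective I) : Injective ((EtCoh.push f).obj I) := by
  have hex : PreservesFiniteLimits (EtCoh.pull f) := Groth.Agent.S0101.result f
  have : (EtCoh.pull f).PreservesMonomorphisms := inferInstance
  exact Injective.injective_of_adjoint (EtCoh.pullPushAdj f) I

/-- **Edge isomorphism**: if `R^i f_* F = 0` for `i < n` then `H^0(S, R^n f_* F) ≃+ H^n(X, F)`. -/
theorem nonempty_edge (f : X ⟶ S) (F : EtCoh.Ab X) (n : ℕ)
    (h : ∀ i, i < n → IsZero ((EtCoh.Rpush f i).obj F)) :
    Nonempty (EtCoh.H S ((EtCoh.Rpush f n).obj F) 0 ≃+ EtCoh.H X F n) := by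
  obtain ⟨e⟩ := H_rightDerived X F n
  let e1 : ((EtCoh.push f ⋙ Γtop S).rightDerived n).obj F ≅ (Γtop S).obj ((EtCoh.Rpush f n).obj F) :=
    Groth.Agent.Sga4h.Edge.rightDerivedCompIso (EtCoh.push f) (Γtop S) (injective_push f) F n h
  let e2 : ((EtCoh.push f ⋙ Γtop S).rightDerived n).obj F ≅ ((Γtop X).rightDerived n).obj F :=
    (rightDerivedIso (gammaPush f) n).app F
  exact ⟨(Sheaf.H.equiv₀ ((EtCoh.Rpush f n).obj F) (topIsTerminal S)).trans
    ((e1.symm ≪≫ e2).addCommGroupIsoToAddEquiv.trans e.symm)⟩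

/-- Vanishing below the first non-vanishing degree. -/
theorem subsingleton_H (f : X ⟶ S) (F : EtCoh.Ab X) (n : ℕ)
    (h : ∀ i, i < n → IsZero ((EtCoh.Rpush f i).obj F)) (p : ℕ) (hp : p < n) :
    Subsingleton (EtCoh.H X F p) := by
  obtain ⟨e⟩ := H_rightDerived X F p
  have h1 := Groth.Agent.Sga4h.Edge.isZero_rightDerived_comp (EtCoh.push f) (Γtop S)
    (injective_push f) F n h p hp
  have h2 : IsZero (((Γtop X).rightDerived p).obj F) := h1.of_iso ((rightDerivedIso (gammaPush f) p).app F).symm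
  have h3 : Subsingleton (((Γtop X).rightDerived p).obj F : AddCommGrpCat.{u + 1}) :=
    AddCommGrpCat.subsingleton_of_isZero h2
  exact e.toEquiv.subsingleton

end Groth.Agent.Sga4h.H479.EdgeH
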