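import Groth.Agent.Sga4h.H299.Rs
import Groth.Agent.Etrest.ConsClass
import Groth.Agent.Etcore.LFinite
import Groth.Agent.Sga4h.H479.EdgeH

/-!
# Constructibility of `R^q f_!` for sheaves of modules over a finite ring

`RS Λ j p q = j_! ⋙ R^q p_*`, `j` a quasi-compact open immersion, `p` proper of finite presentation.
-/

set_option autoImplicit false
universe u

open CategoryTheory CategoryTheory.Limits AlgebraicGeometry Opposite

namespace Groth.Agent.Sga4h.H479.RSCons

open Groth.Agent.Etrest.ModAb Groth.Agent.Sga4h.H299.Rs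

/-- Finiteness for proper morphisms (`S0184`). -/
def ProperCons : Prop :=
  ∀ {X S : Scheme.{u}} (f : X ⟶ S) [IsProper f] [LocallyOfFinitePresentation f] (n : ℕ) (_ : 0 < n)
    (F : EtCoh.Ab X) (_ : EtPBC.IsConstructible F) (_ : EtCoh.KilledBy n F) (q : ℕ),
    EtPBC.IsConstructible ((EtCoh.Rpush f q).obj F)

theorem killedBy_ab {Λ : Type (u + 1)} [CommRing Λ] {X : Scheme.{u}} {n : ℕ} (hn : (n : Λ) = 0)
    (F : EtModW.Mod Λ X) : EtCoh.KilledBy n ((ab Λ X).obj F) := by
  intro U s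
  let t : (F.obj.obj (op U) : ModuleCat Λ) := s
  have : n • t = 0 := by
    rw [← Nat.cast_smul_eq_nsmul Λ, hn, zero_smul]
  exact this

/-- An abelian sheaf whose sections over all étale schemes are killed by `n`: extension by zero. -/
theorem killedBy_of_nsmul {X : Scheme.{u}} {n : ℕ} {F : EtCoh.Ab X} (h : n • 𝟙 F = 0) : EtCoh.KilledBy n F := by
  intro U s
  have h1 := congrArg (fun φ : F ⟶ F => φ.hom.app (op U) s) h
  exact h1

theorem nsmul_of_killedBy {X : Scheme.{u}} {n : ℕ} {F : EtCoh.Ab X} (h : EtCoh.KilledBy n F) : n • 𝟙 F = 0 := by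
  ext U s
  exact h U.unop s

theorem killedBy_map {X Y : Scheme.{u}} (T : EtCoh.Ab X ⥤ EtCoh.Ab Y) [T.Additive] {n : ℕ} {F : EtCoh.Ab X}
    (h : EtCoh.KilledBy n F) : EtCoh.KilledBy n (T.obj F) := by
  apply killedBy_of_nsmul
  rw [← T.map_id, ← T.map_nsmul, nsmul_of_killedBy h, T.map_zero]

variable (Λ : Type (u + 1)) [CommRing Λ] [Finite Λ]

/-- **Constructibility of `R^q f_!`.** -/
theorem isConstructible_RS_of (hP : ProperCons.{u}) {n : ℕ} (hn0 : 0 < n) (hn : (n : Λ) = 0)
    {X P S : Scheme.{u}} [CompactSpace P] [QuasiSeparatedSpace P]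
    (j : X ⟶ P) [IsOpenImmersion j] [QuasiCompact j] (p : P ⟶ S) [IsProper p]
    [LocallyOfFinitePresentation p] (q : ℕ) (M : EtModW.Mod Λ X) (hM : EtModW.IsConstructible Λ M) :
    EtModW.IsConstructible Λ ((RS Λ j p q).obj M) := by
  rw [Groth.Agent.Etcore.LFinite.isConstructible_iff_ab] at hM ⊢
  have h1 := Groth.Agent.Etrest.ConsClass.isConstructible_extZero j _ hM
  have h2 : EtCoh.KilledBy n ((EtShriek.extZero j).obj ((ab Λ X).obj M)) :=
    killedBy_map _ (killedBy_ab hn M)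
  have h3 := hP p n hn0 _ h1 h2 q
  exact Groth.Agent.EtpbcA.StrataGlob.isConstructible_of_iso ((rsAb Λ j p q).app M).symm h3

section edge

variable (Λ : Type (u + 1)) [CommRing Λ] {X P S : Scheme.{u}} (j : X ⟶ P) [IsOpenImmersion j] (p : P ⟶ S)
  (M : EtModW.Mod Λ X)

theorem isZero_rpush_iff (i : ℕ) : IsZero ((RS Λ j p i).obj M) ↔
    IsZero ((EtCoh.Rpush p i).obj ((EtShriek.extZero j).obj ((ab Λ X).obj M))) := by
  constructor
  · intro h
    exact ((ab Λ S).map_isZero h).of_iso ((rsAb Λ j p i).app M).symm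
  · intro h
    have h1 : IsZero ((ab Λ S).obj ((RS Λ j p i).obj M)) := h.of_iso ((rsAb Λ j p i).app M)
    rw [IsZero.iff_id_eq_zero]
    apply (ab Λ S).map_injective
    exact h1.eq_of_src _ _

/-- `H^0(S, R^n f_! M) ≃ H^n(P, j_! M)` in the first non-vanishing degree. -/
theorem nonempty_edge_RS (n : ℕ) (h : ∀ i, i < n → IsZero ((RS Λ j p i).obj M)) :
    Nonempty (EtCoh.H S ((ab Λ S).obj ((RS Λ j p n).obj M)) 0 ≃+
      EtCoh.H P ((EtShriek.extZero j).obj ((ab Λ X).obj M)) n) := by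
  obtain ⟨e⟩ := EdgeH.nonempty_edge p ((EtShriek.extZero j).obj ((ab Λ X).obj M)) n
    (fun i hi => (isZero_rpush_iff Λ j p M i).1 (h i hi))
  let i0 : (ab Λ S).obj ((RS Λ j p n).obj M) ≅
    (EtCoh.Rpush p n).obj ((EtShriek.extZero j).obj ((ab Λ X).obj M)) := (rsAb Λ j p n).app M
  refine ⟨AddEquiv.trans ?_ e⟩
  exact { toFun := Sheaf.H.map i0.hom 0
          invFun := Sheaf.H.map i0.inv 0
          left_inv := fun x => by
            rw [← Sheaf.H.map_comp_apply, i0.hom_inv_id, Sheaf.H.map_id_apply]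
          right_inv := fun x => by
            rw [← Sheaf.H.map_comp_apply, i0.inv_hom_id, Sheaf.H.map_id_apply]
          map_add' := fun x y => map_add _ x y }

/-- Vanishing of `H^q(P, j_! M)` below the first non-vanishing degree. -/
theorem subsingleton_RS (n : ℕ) (h : ∀ i, i < n → IsZero ((RS Λ j p i).obj M)) (q : ℕ) (hq : q < n) :
    Subsingleton (EtCoh.H P ((EtShriek.extZero j).obj ((ab Λ X).obj M)) q) :=
  EdgeH.subsingleton_H p _ n (fun i hi => (isZero_rpush_iff Λ j p M i).1 (h i hi)) q hq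

end edge

end Groth.Agent.Sga4h.H479.RSCons
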