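import Groth.Agent.Sga5.H835.InvEquiv
import Groth.Agent.Sga4h.ModConstFT
import Groth.Agent.Sga4h.H479.RSCons

/-!
# Constructibility of invertible sheaves, of twists and of extensions by zero
-/

set_option autoImplicit false
universe u

open CategoryTheory CategoryTheory.Limits AlgebraicGeometry Opposite

namespace Groth.Agent.Sga4h.H479.ConsInv

open Groth.Agent.Sga4h.ModDUnit Groth.Agent.Sga4h.ModRestr

variable {Λ : Type (u + 1)} [CommRing Λ] {X : Scheme.{u}}

/-- The constant sheaf `Λ` is constructible. -/
theorem isConstructible_cst : EtModW.IsConstructible Λ (EtModW.constMod Λ X Λ) :=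
  Groth.Agent.Sga4h.ModConstFT.isConstructible_const Λ

/-- An invertible sheaf is constructible. -/
theorem isConstructible_of_isInvertible [IsNoetherianRing Λ] {L : EtModW.Mod Λ X}
    (hL : SGA5.IsInvertible L) : EtModW.IsConstructible Λ L :=
  Groth.Agent.Etrest.ModCons.isConstructible_of_iso ((unitIso Λ X).app L)
    (Groth.Agent.Sga5.H835.InvEquiv.isConstructible_tensor' hL isConstructible_cst)

/-- Extension by zero along a quasi-compact open immersion preserves constructibility. -/
theorem isConstructible_ext [Finite Λ] {U : Scheme.{u}} [CompactSpace X] [QuasiSeparatedSpace X]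
    (j : U ⟶ X) [IsOpenImmersion j] [QuasiCompact j] {M : EtModW.Mod Λ U}
    (hM : EtModW.IsConstructible Λ M) : EtModW.IsConstructible Λ ((ext Λ j).obj M) := by
  rw [Groth.Agent.Etcore.LFinite.isConstructible_iff_ab] at hM ⊢
  exact Groth.Agent.EtpbcA.StrataGlob.isConstructible_of_iso
    ((Groth.Agent.Sga4h.H299.ExtBC.extAb Λ j).app M).symm
    (Groth.Agent.Etrest.ConsClass.isConstructible_extZero j _ hM)

end Groth.Agent.Sga4h.H479.ConsInv
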