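import Groth.Agent.Sga4h.H479.RSCons
import Groth.Agent.S0184

/-!
# Constructibility of `R^q f_!` for sheaves of modules over a finite ring (unconditional)
-/

set_option autoImplicit false
universe u

open CategoryTheory CategoryTheory.Limits AlgebraicGeometry Opposite

namespace Groth.Agent.Sga4h.H479.RSConsFull

open Groth.Agent.Sga4h.H479.RSCons Groth.Agent.Sga4h.H299.Rs

theorem properCons : ProperCons.{u} := fun f _ _ n hn F hF hFn q =>
  Groth.Agent.S0184.result f n hn F hF hFn q

/-- **Constructibility of `R^q f_!`.** -/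
theorem isConstructible_RS (Λ : Type (u + 1)) [CommRing Λ] [Finite Λ] {n : ℕ} (hn0 : 0 < n)
    (hn : (n : Λ) = 0) {X P S : Scheme.{u}} [CompactSpace P] [QuasiSeparatedSpace P]
    (j : X ⟶ P) [IsOpenImmersion j] [QuasiCompact j] (p : P ⟶ S) [IsProper p]
    [LocallyOfFinitePresentation p] (q : ℕ) (M : EtModW.Mod Λ X) (hM : EtModW.IsConstructible Λ M) :
    EtModW.IsConstructible Λ ((RS Λ j p q).obj M) :=
  isConstructible_RS_of Λ properCons hn0 hn j p q M hM

end Groth.Agent.Sga4h.H479.RSConsFull
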