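import Groth.Agent.Sga4h.H479.EdgeH
import Groth.Agent.Sga4h.H299.Row

/-!
# One-row Leray for cohomology: `H^p(S, R^a f_* F) ≃ H^(p+a)(X, F)`
-/

set_option autoImplicit false
universe u

open CategoryTheory CategoryTheory.Limits AlgebraicGeometry Opposite

namespace Groth.Agent.Sga4h.H479.RowH

open Groth.Agent.EtpbcB.SepClosedPoint Groth.Agent.EtpbcB.GammaRpush Groth.Agent.EtpbcB.ExtRightDerived

variable {X S : Scheme.{u}}

/-- `H^p(S, R^a f_* F) ≃ H^(p+a)(X, F)` if `R^q f_* F = 0` for all `q ≠ a`. -/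
theorem nonempty_row (f : X ⟶ S) (F : EtCoh.Ab X) (a : ℕ)
    (h : ∀ q, q ≠ a → IsZero ((EtCoh.Rpush f q).obj F)) (p : ℕ) :
    Nonempty (EtCoh.H S ((EtCoh.Rpush f a).obj F) p ≃+ EtCoh.H X F (p + a)) := by
  obtain ⟨e1⟩ := H_rightDerived X F (p + a)
  obtain ⟨e2⟩ := H_rightDerived S ((EtCoh.Rpush f a).obj F) p
  obtain ⟨e3⟩ := Groth.Agent.Sga4h.H299.Row.one_row (EtCoh.push f) (Γtop S)
    (EdgeH.injective_push f) a F h p
  let e4 : ((EtCoh.push f ⋙ Γtop S).rightDerived (p + a)).obj F ≅ ((Γtop X).rightDerived (p + a)).obj F :=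
    (rightDerivedIso (gammaPush f) (p + a)).app F
  exact ⟨e2.trans (((e3.symm ≪≫ e4).addCommGroupIsoToAddEquiv).trans e1.symm)⟩

end Groth.Agent.Sga4h.H479.RowH
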