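import Groth.Agent.Sga4h.H276.Cp
import Groth.Agent.Sga4h.H479.RSConsFull
import Groth.Agent.Sga4h.H479.ConsInv
import Groth.Agent.Sga4h.H479.RowH

/-!
# Constructibility and edge isomorphisms for `R^q f_!` computed with any compactification

`Cp.R Λ f q` (chosen compactification), `c : Cp.Cpt f` any compactification.

* `isConstructible_R`, `isConstructible_R_of_cpt`;
* `nonempty_edge_R`: `H^0(S, R^n f_! M) ≃ H^n(P, j_! M)` if `R^i f_! M = 0` for `i < n`;
* `subsingleton_R`: `H^q(P, j_! M) = 0` for `q < n`;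
* `nonempty_row_R`: `H^p(S, R^a f_! M) ≃ H^(p+a)(P, j_! M)` if `R^i f_! M = 0` for `i ≠ a`.
-/

set_option autoImplicit false
universe u

open CategoryTheory CategoryTheory.Limits AlgebraicGeometry Opposite

namespace Groth.Agent.Sga4h.H479.CpCons

open Groth.Agent.Etrest.ModAb Groth.Agent.Sga4h.H299.Rs Groth.Agent.Sga4h.H276

variable {Λ : Type (u + 1)} [CommRing Λ] {X S : Scheme.{u}} (f : X ⟶ S) [Cp.Cf f]

section cons

variable [Finite Λ]

theorem card_pos_and_eq_zero : 0 < Nat.card Λ ∧ ((Nat.card Λ : ℕ) : Λ) = 0 :=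
  ⟨Nat.card_pos, by
    have h := card_nsmul_eq_zero' (x := (1 : Λ))
    rwa [nsmul_one] at h⟩

/-- `R^q f_! M` is constructible if `M` is, `c` any compactification with `c.p` of finite presentation. -/
theorem isConstructible_R_of_cpt (c : Cp.Cpt f) [LocallyOfFinitePresentation c.p] (q : ℕ)
    {M : EtModW.Mod Λ X} (hM : EtModW.IsConstructible Λ M) :
    EtModW.IsConstructible Λ ((Cp.R Λ f q).obj M) := by
  obtain ⟨hn0, hn⟩ := card_pos_and_eq_zero (Λ := Λ)
  have : CompactSpace S := Cp.Cf.cp f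
  have : QuasiSeparatedSpace S := Cp.Cf.qs f
  have : CompactSpace c.P := QuasiCompact.compactSpace_of_compactSpace c.p
  have : QuasiSeparatedSpace c.P := quasiSeparatedSpace_of_quasiSeparated c.p
  obtain ⟨e⟩ := Cp.nonempty_R hn0 hn c q M
  exact Groth.Agent.Etrest.ModCons.isConstructible_of_iso e.symm
    (RSConsFull.isConstructible_RS Λ hn0 hn c.j c.p q M hM)

/-- **`R^q f_! M` is constructible if `M` is**, `S` noetherian. -/
theorem isConstructible_R [IsLocallyNoetherian S] (q : ℕ) {M : EtModW.Mod Λ X}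
    (hM : EtModW.IsConstructible Λ M) : EtModW.IsConstructible Λ ((Cp.R Λ f q).obj M) :=
  isConstructible_R_of_cpt f (Cp.cpt f) q hM

end cons

/-- Transport of `Ext` along an isomorphism. -/
noncomputable def extEquiv {C : Type*} [Category C] [Abelian C] [HasExt C] (A : C) {F G : C} (e : F ≅ G)
    (p : ℕ) : Abelian.Ext A F p ≃+ Abelian.Ext A G p :=
  ((Abelian.extFunctorObj A p).mapIso e).addCommGroupIsoToAddEquiv

section edge

variable {n : ℕ} (hn0 : 0 < n) (hn : (n : Λ) = 0) (c : Cp.Cpt f) (M : EtModW.Mod Λ X)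

include hn0 hn

theorem isZero_R_iff (i : ℕ) : IsZero ((Cp.R Λ f i).obj M) ↔
    IsZero ((EtCoh.Rpush c.p i).obj ((EtShriek.extZero c.j).obj ((ab Λ X).obj M))) := by
  obtain ⟨e⟩ := Cp.nonempty_R hn0 hn c i M
  rw [← RSCons.isZero_rpush_iff Λ c.j c.p M i]
  exact e.isZero_iff

/-- `H^0(S, R^d f_! M) ≃ H^d(P, j_! M)` in the first non-vanishing degree, any compactification. -/
theorem nonempty_edge_R (d : ℕ) (h : ∀ i, i < d → IsZero ((Cp.R Λ f i).obj M)) :
    Nonempty (EtCoh.H S ((ab Λ S).obj ((Cp.R Λ f d).obj M)) 0 ≃+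
      EtCoh.H c.P ((EtShriek.extZero c.j).obj ((ab Λ X).obj M)) d) := by
  obtain ⟨e⟩ := Cp.nonempty_R hn0 hn c d M
  obtain ⟨e'⟩ := RSCons.nonempty_edge_RS Λ c.j c.p M d (fun i hi => by
    obtain ⟨e⟩ := Cp.nonempty_R hn0 hn c i M
    exact e.isZero_iff.1 (h i hi))
  exact ⟨(extEquiv _ ((ab Λ S).mapIso e) 0).trans e'⟩

/-- `H^q(P, j_! M) = 0` below the first non-vanishing degree, any compactification. -/
theorem subsingleton_R (d : ℕ) (h : ∀ i, i < d → IsZero ((Cp.R Λ f i).obj M)) (q : ℕ) (hq : q < d) :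
    Subsingleton (EtCoh.H c.P ((EtShriek.extZero c.j).obj ((ab Λ X).obj M)) q) :=
  RSCons.subsingleton_RS Λ c.j c.p M d (fun i hi => by
    obtain ⟨e⟩ := Cp.nonempty_R hn0 hn c i M
    exact e.isZero_iff.1 (h i hi)) q hq

/-- One row: `H^p(S, R^a f_! M) ≃ H^(p+a)(P, j_! M)` if `R^i f_! M = 0` for all `i ≠ a`, any compactification. -/
theorem nonempty_row_R (a : ℕ) (h : ∀ i, i ≠ a → IsZero ((Cp.R Λ f i).obj M)) (p : ℕ) :
    Nonempty (EtCoh.H S ((ab Λ S).obj ((Cp.R Λ f a).obj M)) p ≃+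
      EtCoh.H c.P ((EtShriek.extZero c.j).obj ((ab Λ X).obj M)) (p + a)) := by
  obtain ⟨e⟩ := Cp.nonempty_R hn0 hn c a M
  obtain ⟨e'⟩ := RowH.nonempty_row c.p ((EtShriek.extZero c.j).obj ((ab Λ X).obj M)) a
    (fun i hi => (isZero_R_iff f hn0 hn c M i).1 (h i hi)) p
  let i0 : (ab Λ S).obj ((RS Λ c.j c.p a).obj M) ≅
    (EtCoh.Rpush c.p a).obj ((EtShriek.extZero c.j).obj ((ab Λ X).obj M)) := (rsAb Λ c.j c.p a).app M
  exact ⟨(extEquiv _ ((ab Λ S).mapIso e ≪≫ i0) p).trans e'⟩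

end edge

end Groth.Agent.Sga4h.H479.CpCons
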