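import Groth.Agent.S0646
import Groth.Agent.Etcore.PullbackLim
import Groth.Agent.Etcore.FGLim
import Groth.Agent.Etcore.EtInst
import Groth.Agent.Sga4h.EtaleRes2
import Groth.Agent.CurvesA.EtFieldObj

/-!
# Sections of the inverse image of a sheaf to a union of a tower of fields

`L = ⋃ E a` an extension of the field `K`, `F` an abelian étale sheaf on `Spec K`: if the inverse image of `F`
on `Spec L` has a nonzero global section then `F(Spec (E a)) ≠ 0` for some `a`.
-/

set_option autoImplicit false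
universe u

open CategoryTheory CategoryTheory.Limits AlgebraicGeometry Opposite
open Groth.Agent.CurvesA.EtFieldObj
open scoped Groth.Agent.Etcore.EtInst

namespace Groth.Agent.Sga4h.H479.TowerLim

/-- There is a nonzero cohomology class in degree `0`. -/
def NZ {X : Scheme.{u}} (F : EtCoh.Ab X) : Prop := ∃ x : EtCoh.H X F 0, x ≠ 0

theorem NZ.of_iso {X : Scheme.{u}} {F G : EtCoh.Ab X} (e : F ≅ G) (h : NZ F) : NZ G := by
  obtain ⟨x, hx⟩ := h
  refine ⟨Sheaf.H.map e.hom 0 x, fun h0 => hx ?_⟩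
  have h1 : Sheaf.H.map e.inv 0 (Sheaf.H.map e.hom 0 x) = x := by
    rw [← Sheaf.H.map_comp_apply, e.hom_inv_id, Sheaf.H.map_id_apply]
  rw [← h1, h0, map_zero]

theorem nz_iff {X : Scheme.{u}} (F : EtCoh.Ab X) :
    NZ F ↔ ∃ s : F.obj.obj (op (EtCoh.top X)), s ≠ 0 := by
  constructor
  · rintro ⟨x, hx⟩
    refine ⟨Sheaf.H.equiv₀ F (EtCore.topIsTerminal X) x, fun h => hx ?_⟩
    exact (Sheaf.H.equiv₀ F (EtCore.topIsTerminal X)).injective (h.trans (map_zero _).symm)
  · rintro ⟨s, hs⟩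
    refine ⟨(Sheaf.H.equiv₀ F (EtCore.topIsTerminal X)).symm s, fun h => hs ?_⟩
    exact (Sheaf.H.equiv₀ F (EtCore.topIsTerminal X)).symm.injective (h.trans (map_zero _).symm)

section etale

open Groth.Agent.Sga4h.EtaleRes

variable {X U : Scheme.{u}} (j : U ⟶ X) [Etale j]

/-- The object `U` of the small étale site of `X`. -/
noncomputable def mkEt : X.Etale := Scheme.Etale.mk j

/-- Restricting to `U` and then looking at all of `U` is the same as `U` itself. -/
noncomputable def compTopIso : (EtShriek.compEtale j).obj (EtCoh.top U) ≅ mkEt j :=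
  MorphismProperty.Over.isoMk (Iso.refl _) (by
    change 𝟙 _ ≫ j = 𝟙 _ ≫ j
    rfl)

theorem nz_pull_iff (F : EtCoh.Ab X) :
    NZ ((EtCoh.pull j).obj F) ↔ ∃ s : F.obj.obj (op (mkEt j)), s ≠ 0 := by
  have := jCont j
  have e : (EtCoh.pull j).obj F ≅ (EtShriek.restrAlong j).obj F := (pullIsoRestr j).app F
  have h1 : NZ ((EtCoh.pull j).obj F) ↔ NZ ((EtShriek.restrAlong j).obj F) :=
    ⟨NZ.of_iso e, NZ.of_iso e.symm⟩
  rw [h1, nz_iff]
  constructor
  · rintro ⟨s, hs⟩
    refine ⟨F.obj.map (compTopIso j).inv.op s, fun h => hs ?_⟩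
    have h2 : F.obj.map (compTopIso j).hom.op (F.obj.map (compTopIso j).inv.op s) = s := by
      rw [← Functor.map_comp_apply, ← op_comp, Iso.hom_inv_id, op_id, F.obj.map_id]
      rfl
    exact h2.symm.trans ((congrArg _ h).trans (map_zero _))
  · rintro ⟨s, hs⟩
    refine ⟨F.obj.map (compTopIso j).hom.op s, fun h => hs ?_⟩
    have h2 : F.obj.map (compTopIso j).inv.op (F.obj.map (compTopIso j).hom.op s) = s := by
      rw [← Functor.map_comp_apply, ← op_comp, Iso.inv_hom_id, op_id, F.obj.map_id]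
      rfl
    exact h2.symm.trans ((congrArg _ h).trans (map_zero _))

end etale

section tower

variable {K L : Type u} [Field K] [Field L] [Algebra K L] (E : ℕ → IntermediateField K L)
  (hE : Monotone E)

/-- The system of fields. -/
def eSys : ULift.{u} ℕ ⥤ CommRingCat.{u} where
  obj a := CommRingCat.of (E a.down)
  map {a b} h := CommRingCat.ofHom
    (IntermediateField.inclusion (hE (show a.down ≤ b.down from h.le))).toRingHom
  map_id _ := rfl
  map_comp _ _ := rfl

/-- The cocone with point `L`. -/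
def eCocone : Cocone (eSys E hE) where
  pt := CommRingCat.of L
  ι :=
    { app := fun a => CommRingCat.ofHom (E a.down).val.toRingHom
      naturality := fun _ _ _ => rfl }

theorem nonempty_isColimit (hex : ∀ x : L, ∃ a, x ∈ E a) :
    Nonempty (IsColimit (eCocone E hE)) := by
  apply Groth.Agent.Etcore.FGLim.nonempty_isColimit
  · intro (x : L)
    obtain ⟨a, ha⟩ := hex x
    exact ⟨⟨a⟩, ⟨x, ha⟩, rfl⟩
  · intro a y z h
    exact ⟨a, 𝟙 a, congrArg _ (Subtype.ext h)⟩

/-- structure maps of the system of spectra -/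
noncomputable def eτ (a : ℕ) : Spec (CommRingCat.of (E a)) ⟶ Spec (CommRingCat.of K) :=
  Spec.map (CommRingCat.ofHom (algebraMap K (E a)))

include hE in
theorem exists_stage (hex : ∀ x : L, ∃ a, x ∈ E a) (F : EtCoh.Ab (Spec (CommRingCat.of K)))
    (h : NZ ((EtCoh.pull (Spec.map (CommRingCat.ofHom (algebraMap K L)))).obj F)) :
    ∃ a, NZ ((EtCoh.pull (eτ E a)).obj F) := by
  let Xs := Groth.Agent.Etcore.PullbackLim.specSys (eSys E hE)
  let c := Groth.Agent.Etcore.PullbackLim.specCone (eSys E hE) (eCocone E hE)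
  have hc : IsLimit c := Groth.Agent.Etcore.PullbackLim.isLimitSpecCone _ _
    (nonempty_isColimit E hE hex).some
  let i₀ : ULift.{u} ℕ := ⟨0⟩
  have hT : ∀ a, CompactSpace (Xs.obj a) := fun a =>
    inferInstanceAs (CompactSpace (Spec ((eSys E hE).obj a.unop)))
  have hT' : ∀ a, QuasiSeparatedSpace (Xs.obj a) := fun a =>
    inferInstanceAs (QuasiSeparatedSpace (Spec ((eSys E hE).obj a.unop)))
  let F₀ : EtCoh.Ab (Xs.obj (op i₀)) := (EtCoh.pull (eτ E 0)).obj F
  have hw : (c.π.app (op i₀) : c.pt ⟶ Xs.obj (op i₀)) ≫ eτ E 0 =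
      Spec.map (CommRingCat.ofHom (algebraMap K L)) := by
    change Spec.map ((eCocone E hE).ι.app i₀) ≫ Spec.map (CommRingCat.ofHom (algebraMap K (E 0))) = _
    rw [← Spec.map_comp]
    rfl
  have e0 : (EtCoh.pull (Spec.map (CommRingCat.ofHom (algebraMap K L)))).obj F ≅
      (EtCoh.pull (c.π.app (op i₀))).obj F₀ :=
    ((EtCore.pullCongr hw).symm ≪≫ EtCore.pullComp (c.π.app (op i₀)) (eτ E 0)).app F
  obtain ⟨ξ, hξ⟩ := h.of_iso e0
  have p1 : ∀ a, PreservesFiniteLimits (EtCoh.pull (c.π.app a)) := fun a => Groth.Agent.S0101.result _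
  have p2 : ∀ ⦃a b : (ULift.{u} ℕ)ᵒᵖ⦄ (h : a ⟶ b), PreservesFiniteLimits (EtCoh.pull (Xs.map h)) :=
    fun a b h => Groth.Agent.S0101.result _
  obtain ⟨k, hk, ξk, hk'⟩ := (Groth.Agent.S0646.result Xs
    (fun a b h => Groth.Agent.Etcore.PullbackLim.isAffineHom_specSys (eSys E hE) h)
    hT hT' c hc i₀ F₀ 0).1 ξ
  have hne : ξk ≠ 0 := by
    rintro rfl
    rw [map_zero] at hk'
    exact hξ hk'.symm
  refine ⟨k.down, ?_⟩
  have hw' : (Xs.map (homOfLE hk).op : Xs.obj (op k) ⟶ Xs.obj (op i₀)) ≫ eτ E 0 = eτ E k.down := by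
    change Spec.map ((eSys E hE).map (homOfLE hk)) ≫
      Spec.map (CommRingCat.ofHom (algebraMap K (E 0))) = _
    rw [← Spec.map_comp]
    rfl
  have e1 : (EtCoh.pull (Xs.map (homOfLE hk).op)).obj F₀ ≅ (EtCoh.pull (eτ E k.down)).obj F :=
    ((EtCore.pullComp (Xs.map (homOfLE hk).op) (eτ E 0)).symm ≪≫ EtCore.pullCongr hw').app F
  exact NZ.of_iso e1 ⟨ξk, hne⟩

include hE in
/-- **Sections over a tower.** -/
theorem exists_sect (hex : ∀ x : L, ∃ a, x ∈ E a) [∀ a, FiniteDimensional K (E a)]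
    [∀ a, Algebra.IsSeparable K (E a)] (F : EtCoh.Ab (Spec (CommRingCat.of K)))
    (h : NZ ((EtCoh.pull (Spec.map (CommRingCat.ofHom (algebraMap K L)))).obj F)) :
    ∃ (a : ℕ) (s : F.obj.obj (op (etObj K (E a)))), s ≠ 0 := by
  obtain ⟨a, ha⟩ := exists_stage E hE hex F h
  have h1 : Etale (eτ E a) := etale_SpecMap K (E a)
  exact ⟨a, (nz_pull_iff (eτ E a) F).1 ha⟩

end tower

end Groth.Agent.Sga4h.H479.TowerLim
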