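import Groth.Agent.Sga4h.H479.TowerFun
import Groth.Agent.Sga4h.H479.TowerLim
import Groth.Agent.CurvesA.EtFieldFilt

/-!
# Fixed vectors in a tower of `l`-extensions
-/

set_option autoImplicit false
universe u

open CategoryTheory CategoryTheory.Limits AlgebraicGeometry Opposite

namespace Groth.Agent.Sga4h.H479.TowerFix

open Groth.Agent.Sga4h.ModPoint Groth.Agent.CurvesA.EtFieldObj Groth.Agent.Sga4h.H479.TowerFun
  Groth.Agent.Sga4h.H479.TowerLim Groth.Agent.Etrest.ModAb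

section etale

variable (Λ : Type (u + 1)) [CommRing Λ] {X U : Scheme.{u}} (j : U ⟶ X) [Etale j]

/-- Sections over an étale `X`-scheme. -/
noncomputable def secIso (M : EtModW.Mod Λ X) : (PΓ Λ j).obj M ≅ M.obj.obj (op (mkEt j)) :=
  (Γ Λ U).mapIso (((Groth.Agent.Etcore.LPull.pullPushAdj (Λ := Λ) j).leftAdjointUniq
    (ModRestr.resPushAdj Λ j)).app M) ≪≫ M.obj.mapIso (compTopIso j).op.symm

end etale

variable {K : Type u} [Field K] (Λ : Type (u + 1)) [CommRing Λ]

/-- Sections over a finite separable extension embed in the geometric fibre. -/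
theorem finite_sect (M : EtModW.Mod Λ (Spec (CommRingCat.of K))) (N : Type u) [Field N] [Algebra K N]
    [FiniteDimensional K N] [Algebra.IsSeparable K N] (Ω : Type u) [Field Ω] [Algebra K Ω] [Algebra N Ω]
    [IsScalarTower K N Ω]
    (hf : Finite ((PΓ Λ (Spec.map (CommRingCat.ofHom (algebraMap K Ω)))).obj M)) :
    Finite (M.obj.obj (op (etObj K N))) := by
  have h1 := etale_SpecMap K N
  let d : Spec (CommRingCat.of Ω) ⟶ Spec (CommRingCat.of N) := Spec.map (CommRingCat.ofHom (algebraMap N Ω))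
  let cN : Spec (CommRingCat.of N) ⟶ Spec (CommRingCat.of K) := Spec.map (CommRingCat.ofHom (algebraMap K N))
  have hd : Surjective d := ⟨fun y => ⟨(⟨⊥, Ideal.isPrime_bot⟩ : PrimeSpectrum Ω),
    Subsingleton.elim (α := PrimeSpectrum N) _ _⟩⟩
  have hw : d ≫ cN = Spec.map (CommRingCat.ofHom (algebraMap K Ω)) := by
    rw [← Spec.map_comp, ← CommRingCat.ofHom_comp, ← IsScalarTower.algebraMap_eq]
  have h2 := injective_rho Λ d cN _ hw M
  have h3 : Finite ((PΓ Λ cN).obj M) := Finite.of_injective _ h2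
  exact Finite.of_equiv _ (secIso Λ cN M).toLinearEquiv.toEquiv

/-- **Fixed vectors.** -/
theorem exists_top (ℓ : ℕ) [Fact ℓ.Prime] [CharP Λ ℓ] {L : Type u} [Field L] [Algebra K L]
    (E : ℕ → IntermediateField K L)
    (hE : Monotone E) (hex : ∀ x : L, ∃ a, x ∈ E a) [∀ a, FiniteDimensional K (E a)]
    [∀ a, IsGalois K (E a)] (hcard : ∀ a, Module.finrank K (E a) = ℓ ^ a)
    (Ω : Type u) [Field Ω] [Algebra K Ω] [Algebra L Ω] [IsScalarTower K L Ω]
    (M : EtModW.Mod Λ (Spec (CommRingCat.of K)))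
    (hf : Finite ((PΓ Λ (Spec.map (CommRingCat.ofHom (algebraMap K Ω)))).obj M))
    (x : (PΓ Λ (Spec.map (CommRingCat.ofHom (algebraMap K L)))).obj M) (hx : x ≠ 0) :
    ∃ s : M.obj.obj (op (EtCoh.top (Spec (CommRingCat.of K)))), s ≠ 0 := by
  let cL : Spec (CommRingCat.of L) ⟶ Spec (CommRingCat.of K) := Spec.map (CommRingCat.ofHom (algebraMap K L))
  have h1 : NZ ((ab Λ _).obj ((EtModW.pull Λ cL).obj M)) := (nz_iff _).2 ⟨x, hx⟩
  have h2 : NZ ((EtCoh.pull cL).obj ((ab Λ _).obj M)) := h1.of_iso ((pullIso Λ cL).app M)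
  obtain ⟨a, s, hs⟩ := exists_sect E hE hex ((ab Λ _).obj M) h2
  have hfin : Finite (M.obj.obj (op (etObj K (E a)))) := finite_sect Λ M (E a) Ω hf
  have hK : EtCoh.KilledBy ℓ ((ab Λ _).obj M) := by
    intro U (t : M.obj.obj (op U))
    change ℓ • t = 0
    rw [← Nat.cast_smul_eq_nsmul Λ, CharP.cast_eq_zero, zero_smul]
  have hcard' : Nat.card (E a ≃ₐ[K] E a) = ℓ ^ a := by
    rw [IsGalois.card_aut_eq_finrank, hcard]
  obtain ⟨t, ht⟩ := Groth.Agent.CurvesA.EtFieldFilt.exists_fixed (K := K) (N := E a) ℓ a hcard'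
    ((ab Λ _).obj M) hK hfin s hs
  let e : EtCoh.top (Spec (CommRingCat.of K)) ≅ etObj K K :=
    (EtCore.topIsTerminal _).uniqueUpToIso (Groth.Agent.CurvesA.EtFieldH.isTerminal_etObj K)
  refine ⟨((ab Λ _).obj M).obj.map e.hom.op t, fun h => ht ?_⟩
  have h3 : ((ab Λ _).obj M).obj.map e.inv.op (((ab Λ _).obj M).obj.map e.hom.op t) = t := by
    rw [← Functor.map_comp_apply, ← op_comp, Iso.inv_hom_id, op_id, CategoryTheory.Functor.map_id]
    rfl
  exact h3.symm.trans ((congrArg _ h).trans (map_zero _))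

end Groth.Agent.Sga4h.H479.TowerFix
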