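import Groth.Agent.Sga4h.H479.TowerMono
import Groth.Agent.Sga4h.H479.TowerFix
import Groth.Agent.Sga4h.H919.ConcH
import Groth.Agent.Sga4h.NcDefs
import Groth.Agent.Sga4h.RootTower
import Groth.Agent.Etrest.ModAb
import Mathlib.RingTheory.DiscreteValuationRing.Basic
import Mathlib.FieldTheory.IsSepClosed
import Mathlib.RingTheory.Localization.FractionRing

/-!
# The tower of roots of a uniformizer and unipotent sheaves of modules

`R` a strictly henselian discrete valuation ring with fraction field `K`, `l` a prime number invertible in `R`,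
`L = K(π ^ (1 / l ^ ∞))`: a sheaf of modules on `Spec K` over a finite field of characteristic `l`, all of whose
sections on the geometric fibre are defined over `L`, is a successive extension of constant sheaves.
-/

set_option autoImplicit false
universe u

open CategoryTheory CategoryTheory.Limits AlgebraicGeometry Opposite
open Groth.Agent.Etrest.ModAb Groth.Agent.Sga4h.H919.ConcH Groth.Agent.Sga4h.NcDefs

namespace Groth.Agent.Sga4h.H479.Tower

open Groth.Agent.Sga4h.ModPoint Groth.Agent.Sga4h.H479.TowerFun Groth.Agent.Sga4h.H479.TowerFix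

/-- `H^0(Y, c^* M)` is the group of global sections. -/
noncomputable def hEquiv {X Y : Scheme.{u}} (Λ : Type (u + 1)) [CommRing Λ] (c : Y ⟶ X) (M : EtModW.Mod Λ X) :
    EtCoh.H Y ((ab Λ _).obj ((EtModW.pull Λ c).obj M)) 0 ≃ (PΓ Λ c).obj M :=
  (Sheaf.H.equiv₀ _ (EtCore.topIsTerminal Y)).toEquiv

theorem surjective_SpecMap (K Ω : Type u) [Field K] [Field Ω] [Algebra K Ω] :
    Surjective (Spec.map (CommRingCat.ofHom (algebraMap K Ω))) :=
  ⟨fun _ => ⟨(⟨⊥, Ideal.isPrime_bot⟩ : PrimeSpectrum Ω), Subsingleton.elim (α := PrimeSpectrum K) _ _⟩⟩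

theorem card_ses {Λ : Type (u + 1)} [CommRing Λ] {S : ShortComplex (ModuleCat.{u + 1} Λ)} (hS : S.ShortExact) :
    Nat.card S.X₂ = Nat.card S.X₁ * Nat.card S.X₃ := by
  refine card_eq_mul (S.f.hom.toAddMonoidHom) (S.g.hom.toAddMonoidHom) hS.moduleCat_injective_f
    hS.moduleCat_surjective_g fun b => ?_
  refine ⟨fun h => (ShortComplex.moduleCat_exact_iff _).1 hS.exact b h, ?_⟩
  rintro ⟨a, rfl⟩
  exact congrArg (fun k => k.hom a) S.zero

section

variable {K : Type u} [Field K] {Λ : Type (u + 1)} [Field Λ] [Finite Λ] (ℓ : ℕ) [Fact ℓ.Prime] [CharP Λ ℓ]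
  {L : Type u} [Field L] [Algebra K L] (E : ℕ → IntermediateField K L)
  (hE : Monotone E) (hex : ∀ x : L, ∃ a, x ∈ E a) [∀ a, FiniteDimensional K (E a)]
  [∀ a, IsGalois K (E a)] (hcard : ∀ a, Module.finrank K (E a) = ℓ ^ a)
  (Ω : Type u) [Field Ω] [IsSepClosed Ω] [Algebra K Ω] [Algebra L Ω] [IsScalarTower K L Ω]

include hE hex hcard

theorem unip_of_tower (r : ℕ) : ∀ (M : EtModW.Mod Λ (Spec (CommRingCat.of K))),
    Finite ((PΓ Λ (Spec.map (CommRingCat.ofHom (algebraMap K Ω)))).obj M) →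
    Nat.card ((PΓ Λ (Spec.map (CommRingCat.ofHom (algebraMap K Ω)))).obj M) = Nat.card Λ ^ r →
    Nat.card ((PΓ Λ (Spec.map (CommRingCat.ofHom (algebraMap K L)))).obj M) = Nat.card Λ ^ r →
    Unip Λ r M := by
  have hΩ := surjective_SpecMap K Ω
  let cΩ : Spec (CommRingCat.of Ω) ⟶ Spec (CommRingCat.of K) := Spec.map (CommRingCat.ofHom (algebraMap K Ω))
  let cL : Spec (CommRingCat.of L) ⟶ Spec (CommRingCat.of K) := Spec.map (CommRingCat.ofHom (algebraMap K L))
  let d : Spec (CommRingCat.of Ω) ⟶ Spec (CommRingCat.of L) := Spec.map (CommRingCat.ofHom (algebraMap L Ω))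
  have hd : Surjective d := surjective_SpecMap L Ω
  have hw : d ≫ cL = cΩ := by
    rw [← Spec.map_comp, ← CommRingCat.ofHom_comp, ← IsScalarTower.algebraMap_eq]
  have i1 := preservesFiniteLimits_PΓ Λ cΩ
  have i2 := preservesFiniteColimits_PΓ Λ cΩ
  have i3 := additive_PΓ Λ cΩ
  have hq : 1 < Nat.card Λ := Finite.one_lt_card
  induction r with
  | zero =>
    intro M hf h1 _
    rw [pow_zero] at h1
    have h2 : Subsingleton ((PΓ Λ cΩ).obj M) := (Nat.card_eq_one_iff_unique.1 h1).1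
    exact isZero_of_point Λ cΩ M (ModuleCat.isZero_of_subsingleton _)
  | succ r ih =>
    intro M hf h1 h2
    have hf' : Finite ((PΓ Λ cΩ).obj M) := hf
    have h3 : Nontrivial ((PΓ Λ cL).obj M) := by
      by_contra h
      rw [not_nontrivial_iff_subsingleton] at h
      have h4 : Nat.card ((PΓ Λ cL).obj M) = 1 := Nat.card_unique
      have h5 : Nat.card Λ ^ (r + 1) = 1 := h2.symm.trans h4
      have h6 : 1 < Nat.card Λ ^ (r + 1) := Nat.one_lt_pow (Nat.succ_ne_zero r) hq
      rw [h5] at h6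
      exact lt_irrefl _ h6
    obtain ⟨x, hx⟩ := exists_ne (0 : (PΓ Λ cL).obj M)
    obtain ⟨s, hs⟩ := exists_top Λ ℓ E hE hex hcard Ω M hf x hx
    obtain ⟨φ, hφ⟩ := exists_mono cΩ s hs
    let S : ShortComplex (EtModW.Mod Λ (Spec (CommRingCat.of K))) :=
      ShortComplex.mk φ (cokernel.π φ) (cokernel.condition φ)
    have hS : S.ShortExact := { exact := ShortComplex.exact_cokernel φ }
    have hA : (S.map (PΓ Λ cΩ)).ShortExact := hS.map_of_exact (PΓ Λ cΩ)
    have hc := card_ses hA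
    have hc1 : Nat.card (S.map (PΓ Λ cΩ)).X₁ = Nat.card Λ := card_pointConst cΩ
    have hc2 : Nat.card (S.map (PΓ Λ cΩ)).X₂ = Nat.card Λ ^ (r + 1) := h1
    rw [hc1, hc2, pow_succ'] at hc
    have hc3 : Nat.card Λ ^ r = Nat.card ((PΓ Λ cΩ).obj S.X₃) :=
      Nat.eq_of_mul_eq_mul_left (by omega) hc
    have hg : Function.Surjective ((PΓ Λ cΩ).map S.g) := hA.moduleCat_surjective_g
    have hfQ : Finite ((PΓ Λ cΩ).obj S.X₃) := Finite.of_surjective _ hg
    have hρ : Function.Bijective ((rho Λ d cL cΩ hw).app M) :=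
      (Nat.bijective_iff_injective_and_card _).2 ⟨injective_rho Λ d cL cΩ hw M, h2.trans h1.symm⟩
    have hρQ : Function.Bijective ((rho Λ d cL cΩ hw).app S.X₃) := by
      refine ⟨injective_rho Λ d cL cΩ hw _, fun z => ?_⟩
      obtain ⟨y, rfl⟩ := hg z
      obtain ⟨x, rfl⟩ := hρ.2 y
      refine ⟨(PΓ Λ cL).map S.g x, ?_⟩
      exact (NatTrans.naturality_apply (rho Λ d cL cΩ hw) S.g x)
    have hc4 : Nat.card ((PΓ Λ cL).obj S.X₃) = Nat.card Λ ^ r :=
      (Nat.card_congr (Equiv.ofBijective _ hρQ)).trans hc3.symm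
    exact ⟨S, hS, ⟨Iso.refl _⟩, ih S.X₃ hfQ hc3.symm hc4, ⟨Iso.refl _⟩⟩

end

/-- (TOWER) -/
def TowerStmt : Prop :=
  ∀ (R : Type u) [CommRing R] [IsDomain R] [IsDiscreteValuationRing R]
    (_ : EtCoh.IsStrictlyHenselianLocalRing R) (K : Type u) [Field K] [Algebra R K]
    [IsFractionRing R K] (l : ℕ) (_ : l.Prime) (_ : IsUnit (l : R)),
    ∃ (L : Type u) (_ : Field L) (_ : Algebra K L) (_ : Algebra R L) (_ : IsScalarTower R K L)
      (_ : Algebra.IsSeparable K L), RootClosed l R L ∧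
      ∀ (Λ : Type (u + 1)) [Field Λ] [Finite Λ] [CharP Λ l]
        (M : EtModW.Mod Λ (Spec (CommRingCat.of K))) (r : ℕ)
        (Ω : Type u) [Field Ω] [IsSepClosed Ω] [Algebra L Ω] [Algebra K Ω] [IsScalarTower K L Ω],
        Finite (EtCoh.H (Spec (CommRingCat.of Ω)) ((ab Λ _).obj ((EtModW.pull Λ
          (Spec.map (CommRingCat.ofHom (algebraMap K Ω)))).obj M)) 0) →
        Nat.card (EtCoh.H (Spec (CommRingCat.of Ω)) ((ab Λ _).obj ((EtModW.pull Λ
          (Spec.map (CommRingCat.ofHom (algebraMap K Ω)))).obj M)) 0) = Nat.card Λ ^ r →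
        Nat.card (EtCoh.H (Spec (CommRingCat.of L)) ((ab Λ _).obj ((EtModW.pull Λ
          (Spec.map (CommRingCat.ofHom (algebraMap K L)))).obj M)) 0) = Nat.card Λ ^ r →
        Unip Λ r M

theorem towerStmt : TowerStmt.{u} := by
  intro R _ _ _ hR K _ _ _ l hl hu
  obtain ⟨L, _, _, _, hsep, E, σ, hE, hex, hfd, hgal, hrank, -, -, hroot⟩ :=
    Groth.Agent.Sga4h.RootTower.exists_tower R K hR l hu
  let _ : Algebra R L := ((algebraMap K L).comp (algebraMap R K)).toAlgebra
  have hT : IsScalarTower R K L := IsScalarTower.of_algebraMap_eq fun _ => rfl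
  refine ⟨L, inferInstance, inferInstance, inferInstance, hT, hsep, ?_, ?_⟩
  · intro π hπ l' hl' hdvd a
    obtain rfl := (Nat.prime_dvd_prime_iff_eq hl' hl).1 hdvd
    exact hroot π hπ a
  · intro Λ _ _ _ M r Ω _ _ _ _ _ hf h1 h2
    have : Fact l.Prime := ⟨hl⟩
    refine unip_of_tower l E hE hex hrank Ω r M (Finite.of_equiv _ (hEquiv Λ _ M)) ?_ ?_
    · rw [← h1]
      exact (Nat.card_congr (hEquiv Λ _ M)).symm
    · rw [← h2]
      exact (Nat.card_congr (hEquiv Λ _ M)).symm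

end Groth.Agent.Sga4h.H479.Tower
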