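import Groth.Agent.Sga4h.ModPoint
import Groth.Agent.Sga4h.ModRestr
import Groth.Agent.Sga4h.LFinPull
import Groth.Agent.Etrest.ModCons
import Groth.Prelude.Def_FixPt

/-!
# Global sections of inverse images of sheaves of modules

`PΓ Λ c M = Γ(Y, c^* M)` for `c : Y ⟶ X`; for `d : Z ⟶ Y` surjective the restriction
`PΓ Λ c M ⟶ PΓ Λ (d ≫ c) M` is injective, naturally in `M`; for `Y` the spectrum of a separably closed field
`PΓ Λ c` is exact and takes the constant sheaf to its value.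
-/

set_option autoImplicit false
universe u

open CategoryTheory CategoryTheory.Limits AlgebraicGeometry Opposite

namespace Groth.Agent.Sga4h.H479.TowerFun

open Groth.Agent.Sga4h.ModPoint Groth.Agent.Etcore.LPullComp

variable (Λ : Type (u + 1)) [CommRing Λ] {X Y Z : Scheme.{u}}

/-- Global sections of the inverse image. -/
noncomputable def PΓ (c : Y ⟶ X) : EtModW.Mod Λ X ⥤ ModuleCat.{u + 1} Λ := EtModW.pull Λ c ⋙ Γ Λ Y

/-- `d_*` followed by global sections. -/
noncomputable def pushΓ (d : Z ⟶ Y) : EtModW.push Λ d ⋙ Γ Λ Y ≅ Γ Λ Z :=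
  NatIso.ofComponents (fun F => F.obj.mapIso (EtCore.bcTopIso d).op.symm) (fun {F G} φ => by
    simp only [Functor.comp_map, Functor.mapIso_hom, Iso.symm_hom]
    exact (φ.hom.naturality _).symm)

/-- Restriction of sections. -/
noncomputable def rho (d : Z ⟶ Y) (c : Y ⟶ X) (c' : Z ⟶ X) (w : d ≫ c = c') : PΓ Λ c ⟶ PΓ Λ c' where
  app M := (Γ Λ Y).map ((Groth.Agent.Etcore.LPull.pullPushAdj d).unit.app ((EtModW.pull Λ c).obj M)) ≫
    (pushΓ Λ d).hom.app ((EtModW.pull Λ d).obj ((EtModW.pull Λ c).obj M)) ≫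
      (Γ Λ Z).map ((pullComp Λ d c ≪≫ pullCongr Λ w).hom.app M)
  naturality M N f := by
    have h1 := (Groth.Agent.Etcore.LPull.pullPushAdj (Λ := Λ) d).unit.naturality ((EtModW.pull Λ c).map f)
    have h2 := (pushΓ Λ d).hom.naturality ((EtModW.pull Λ d).map ((EtModW.pull Λ c).map f))
    have h3 := (pullComp Λ d c ≪≫ pullCongr Λ w).hom.naturality f
    change (Γ Λ Y).map ((EtModW.pull Λ c).map f) ≫ _ ≫ _ ≫ _ =
      (_ ≫ _ ≫ _) ≫ (Γ Λ Z).map ((EtModW.pull Λ c').map f)
    simp only [Category.assoc]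
    rw [← (Γ Λ Z).map_comp, ← h3, (Γ Λ Z).map_comp]
    refine Eq.trans (Category.assoc _ _ _).symm ?_
    rw [← (Γ Λ Y).map_comp]
    refine Eq.trans (congrArg (fun z => (Γ Λ Y).map z ≫ _) h1) ?_
    rw [(Γ Λ Y).map_comp, Category.assoc]
    congr 1
    exact (Category.assoc _ _ _).symm.trans ((congrArg (fun z => z ≫ _) h2).trans (Category.assoc _ _ _))

instance isRightAdjoint_Γ (X : Scheme.{u}) : (Γ Λ X).IsRightAdjoint := (constAdj Λ X).isRightAdjoint

theorem mono_rho (d : Z ⟶ Y) [Surjective d] (c : Y ⟶ X) (c' : Z ⟶ X) (w : d ≫ c = c')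
    (M : EtModW.Mod Λ X) : Mono ((rho Λ d c c' w).app M) := by
  have h1 := Groth.Agent.Sga4h.LFinPull.mono_unit_of_surjective (Λ := Λ) d ((EtModW.pull Λ c).obj M)
  have h0 : (Γ Λ Y).PreservesMonomorphisms := Functor.preservesMonomorphisms_of_adjunction (constAdj Λ Y)
  have h2 : Mono ((Γ Λ Y).map ((Groth.Agent.Etcore.LPull.pullPushAdj (Λ := Λ) d).unit.app
    ((EtModW.pull Λ c).obj M))) := (Γ Λ Y).map_mono _
  have h3 : Mono ((pushΓ Λ d).hom.app ((EtModW.pull Λ d).obj ((EtModW.pull Λ c).obj M)) ≫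
      (Γ Λ Z).map ((pullComp Λ d c ≪≫ pullCongr Λ w).hom.app M)) := inferInstance
  exact @mono_comp _ _ _ _ _ _ h2 _ h3

theorem injective_rho (d : Z ⟶ Y) [Surjective d] (c : Y ⟶ X) (c' : Z ⟶ X) (w : d ≫ c = c')
    (M : EtModW.Mod Λ X) : Function.Injective ((rho Λ d c c' w).app M) :=
  (ModuleCat.mono_iff_injective _).1 (mono_rho Λ d c c' w M)

section point

variable {Ω : Type u} [Field Ω] [IsSepClosed Ω] (c : Spec (CommRingCat.of Ω) ⟶ X)

theorem additive_Γ (Y : Scheme.{u}) : (Γ Λ Y).Additive where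
  map_add := rfl

theorem additive_PΓ (c : Y ⟶ X) : (PΓ Λ c).Additive := by
  have := Groth.Agent.Etrest.ModCons.additive_pull (Λ := Λ) c
  have := additive_Γ Λ Y
  unfold PΓ
  infer_instance

theorem preservesFiniteLimits_PΓ (c : Y ⟶ X) : PreservesFiniteLimits (PΓ Λ c) := by
  have := Groth.Agent.Etrest.ModCons.preservesFiniteLimits_pull (Λ := Λ) c
  have h1 : PreservesLimitsOfSize.{0, 0} (Γ Λ Y) := (constAdj Λ Y).rightAdjoint_preservesLimits
  have h2 : PreservesFiniteLimits (Γ Λ Y) := PreservesLimitsOfSize.preservesFiniteLimits _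
  exact comp_preservesFiniteLimits _ _

theorem preservesFiniteColimits_PΓ : PreservesFiniteColimits (PΓ Λ c) := by
  have := Groth.Agent.Etrest.ModCons.preservesFiniteColimits_pull (Λ := Λ) c
  have h1 : PreservesColimitsOfSize.{0, 0} (Γ Λ (Spec (CommRingCat.of Ω))) := inferInstance
  have h2 : PreservesFiniteColimits (Γ Λ (Spec (CommRingCat.of Ω))) :=
    PreservesColimitsOfSize.preservesFiniteColimits _
  exact comp_preservesFiniteColimits _ _

/-- The value of a constant sheaf on a geometric point. -/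
noncomputable def pointConst (A : ModuleCat.{u + 1} Λ) :
    (PΓ Λ c).obj ((constantSheaf X.smallEtaleTopology (ModuleCat.{u + 1} Λ)).obj A) ≅ A :=
  (Γ Λ _).mapIso ((FixPt.pullConstIso c).app A) ≪≫
    (asIso ((constAdj Λ (Spec (CommRingCat.of Ω))).unit.app A)).symm

/-- A sheaf on `X` with vanishing fibre along a surjective geometric point is zero. -/
theorem isZero_of_point [Surjective c] (M : EtModW.Mod Λ X) (h : IsZero ((PΓ Λ c).obj M)) : IsZero M := by
  apply Groth.Agent.Sga4h.LFinPull.isZero_of_pull_surjective c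
  have h1 : IsZero ((Γ Λ _).obj ((EtModW.pull Λ c).obj M)) := h
  rw [IsZero.iff_id_eq_zero]
  apply (Γ Λ (Spec (CommRingCat.of Ω))).map_injective
  exact h1.eq_of_src _ _

end point

end Groth.Agent.Sga4h.H479.TowerFun
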