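import Groth.Agent.Sga4h.H479.TowerFun
import Mathlib.LinearAlgebra.Dimension.Finrank

/-!
# Nonzero maps from the constant sheaf `Λ`, `Λ` a field, are injective on a scheme with one geometric point
-/

set_option autoImplicit false
universe u

open CategoryTheory CategoryTheory.Limits AlgebraicGeometry Opposite

namespace Groth.Agent.Sga4h.H479.TowerFun

open Groth.Agent.Sga4h.ModPoint

variable {Λ : Type (u + 1)} [CommRing Λ] {X : Scheme.{u}}
variable {Ω : Type u} [Field Ω] [IsSepClosed Ω] (c : Spec (CommRingCat.of Ω) ⟶ X) [Surjective c]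

theorem eq_zero_of_point {M N : EtModW.Mod Λ X} (φ : M ⟶ N) (h : (PΓ Λ c).map φ = 0) : φ = 0 := by
  have h1 := preservesFiniteLimits_PΓ Λ c
  have h2 := preservesFiniteColimits_PΓ Λ c
  have h3 := additive_PΓ Λ c
  have h4 : (PΓ Λ c).map (factorThruImage φ) ≫ (PΓ Λ c).map (image.ι φ) = 0 := by
    rw [← (PΓ Λ c).map_comp, image.fac, h]
  have h5 : Mono ((PΓ Λ c).map (image.ι φ)) := inferInstance
  have h6 : (PΓ Λ c).map (factorThruImage φ) = 0 := by
    rw [← cancel_mono ((PΓ Λ c).map (image.ι φ)), h4, zero_comp]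
  have h7 : Epi ((PΓ Λ c).map (factorThruImage φ)) := inferInstance
  have h8 : IsZero ((PΓ Λ c).obj (image φ)) := by
    rw [IsZero.iff_id_eq_zero, ← cancel_epi ((PΓ Λ c).map (factorThruImage φ)), h6, zero_comp, zero_comp]
  have h9 := isZero_of_point Λ c _ h8
  rw [← image.fac φ, h9.eq_of_tgt (factorThruImage φ) 0, zero_comp]

theorem mono_of_point {M N : EtModW.Mod Λ X} (φ : M ⟶ N) (h : Mono ((PΓ Λ c).map φ)) : Mono φ := by
  have h1 := preservesFiniteLimits_PΓ Λ c
  have h3 := additive_PΓ Λ c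
  apply Preadditive.mono_of_isZero_kernel
  apply isZero_of_point Λ c
  exact (isZero_kernel_of_mono ((PΓ Λ c).map φ)).of_iso (PreservesKernel.iso (PΓ Λ c) φ)

end Groth.Agent.Sga4h.H479.TowerFun

namespace Groth.Agent.Sga4h.H479.TowerFun

open Groth.Agent.Sga4h.ModPoint

variable {Λ : Type (u + 1)} [Field Λ] {X : Scheme.{u}}
variable {Ω : Type u} [Field Ω] [IsSepClosed Ω] (c : Spec (CommRingCat.of Ω) ⟶ X) [Surjective c]

include c in
theorem mono_of_ne_zero {M : EtModW.Mod Λ X} (φ : EtModW.constMod Λ X Λ ⟶ M) (hφ : φ ≠ 0) : Mono φ := by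
  apply mono_of_point c
  have h0 : (PΓ Λ c).map φ ≠ 0 := fun h => hφ (eq_zero_of_point c φ h)
  let e := pointConst Λ c (ModuleCat.of Λ Λ)
  have h1 : e.inv ≫ (PΓ Λ c).map φ ≠ 0 := fun h => h0 (by
    rw [← cancel_epi e.inv, h, comp_zero])
  have h2 : Mono (e.inv ≫ (PΓ Λ c).map φ) := by
    rw [ModuleCat.mono_iff_injective]
    rw [← LinearMap.ker_eq_bot]
    let f : Λ →ₗ[Λ] (PΓ Λ c).obj M := (e.inv ≫ (PΓ Λ c).map φ).hom
    change LinearMap.ker f = ⊥
    rcases eq_bot_or_eq_top (LinearMap.ker f) with h | h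
    · exact h
    · exfalso
      apply h1
      ext : 1
      exact LinearMap.ker_eq_top.1 h
  have h3 : (PΓ Λ c).map φ = e.hom ≫ (e.inv ≫ (PΓ Λ c).map φ) := by simp
  rw [h3]
  exact mono_comp _ _

include c in
/-- A nonzero global section gives an embedding of the constant sheaf. -/
theorem exists_mono {M : EtModW.Mod Λ X} (s : M.obj.obj (op (EtCoh.top X))) (hs : s ≠ 0) :
    ∃ φ : EtModW.constMod Λ X Λ ⟶ M, Mono φ := by
  let g : ModuleCat.of Λ Λ ⟶ (Γ Λ X).obj M := ModuleCat.ofHom (LinearMap.toSpanSingleton Λ _ s)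
  have hg : g ≠ 0 := by
    intro h
    apply hs
    have h1 : g.hom (1 : Λ) = 0 := by rw [h]; rfl
    have h2 : g.hom (1 : Λ) = s := LinearMap.toSpanSingleton_apply_one _ _ _
    exact h2.symm.trans h1
  let φ : EtModW.constMod Λ X Λ ⟶ M := ((constAdj Λ X).homEquiv (ModuleCat.of Λ Λ) M).symm g
  refine ⟨φ, mono_of_ne_zero c φ fun h => hg ?_⟩
  have h1 : (constAdj Λ X).homEquiv (ModuleCat.of Λ Λ) M φ = g := Equiv.apply_symm_apply _ _
  rw [← h1, h, Adjunction.homEquiv_unit, (Γ Λ X).map_zero, comp_zero]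

omit [Surjective c] in
/-- The number of elements of the value of a constant sheaf. -/
theorem card_pointConst : Nat.card ((PΓ Λ c).obj (EtModW.constMod Λ X Λ)) = Nat.card Λ :=
  Nat.card_congr (pointConst Λ c (ModuleCat.of Λ Λ)).toLinearEquiv.toEquiv

end Groth.Agent.Sga4h.H479.TowerFun
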